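import Groth.Agent.LocNoethMod.Gen
import Groth.Agent.SiteBase.InjectiveCriterion
import Groth.Agent.SiteBase.ModCoh
import Groth.Agent.DCohLib.StalkKFlat
import Groth.Agent.ModTensor.Sheaf

/-!
# Baer's criterion and sums of injective modules on a locally noetherian scheme
-/

set_option autoImplicit false
set_option backward.isDefEq.respectTransparency false
set_option linter.style.haveILetI false
universe u

open CategoryTheory Limits Opposite TopologicalSpace AlgebraicGeometry
open Groth.Agent.PullbackMod Groth.Agent.DCohLib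

noncomputable section

namespace Groth.Agent.LocNoethMod

variable {X : Scheme.{u}}

/-- The affine opens give a generating family. -/
theorem exists_not_factor {A B : X.Modules} (p : A ⟶ B) [Mono p] (hp : ¬ IsIso p) :
    ∃ (U : X.affineOpens) (g : CxOX.extZeroUnit U.1.ι ⟶ B),
      ∀ a : CxOX.extZeroUnit U.1.ι ⟶ A, a ≫ p ≠ g := by
  by_contra h
  push Not at h
  refine hp ((isIso_iff_stalk p).2 fun x => ⟨(mono_iff_stalk p).1 ‹_› x, fun z => ?_⟩)
  obtain ⟨O, hxO, s, rfl⟩ := TopCat.Presheaf.exists_germ_eq B.presheaf z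
  obtain ⟨V, hV, hxV, hVO⟩ := exists_isAffineOpen_mem_and_subset (X := X) (x := x) (U := O) hxO
  let W := V.ι ''ᵁ ⊤
  have hWO : W ≤ O := V.ι_image_top.le.trans hVO
  have hxW : x ∈ W := V.ι_image_top.ge hxV
  obtain ⟨a, ha⟩ := h ⟨V, hV⟩ ((secEquiv V.ι B).symm (B.presheaf.map (homOfLE hWO).op s))
  refine ⟨A.presheaf.germ W x hxW (secEquiv V.ι A a), ?_⟩
  rw [stalkLin_germ, ← secEquiv_comp, ha, Equiv.apply_symm_apply, TopCat.Presheaf.germ_res_apply]

instance additive_stkF (x : X) : (stkF x).Additive := Functor.additive_of_preserves_binary_products _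

theorem stalkLin_sub {A B : X.Modules} (a b : A ⟶ B) (x : X) :
    stalkLin (a - b) x = stalkLin a x - stalkLin b x :=
  LinearMap.ext fun z => LinearMap.congr_fun (congrArg ModuleCat.Hom.hom ((stkF x).map_sub (f := a) (g := b))) z

theorem exists_stalk_kernel {A B : X.Modules} (g : A ⟶ B) (x : X) (w : A.presheaf.stalk x)
    (hw : stalkLin g x w = 0) : ∃ v, stalkLin (kernelSubobject g).arrow x v = w := by
  let T := ShortComplex.mk (kernelSubobject g).arrow g (kernelSubobject_arrow_comp g)
  have hT : T.Exact := T.exact_of_f_is_kernel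
    (IsLimit.ofIsoLimit (kernelIsKernel g) (Fork.ext (kernelSubobjectIso g).symm (by
      simp [T, Fork.ι])))
  exact (ShortComplex.moduleCat_exact_iff _).1 (hT.map (stkF x)) w hw

variable [IsLocallyNoetherian X]

/-- Baer's criterion. -/
theorem injective_of_extend_affine (I : X.Modules)
    (h : ∀ (U : X.affineOpens) {S : X.Modules} (i : S ⟶ CxOX.extZeroUnit U.1.ι) [Mono i] (φ : S ⟶ I),
      ∃ ψ : CxOX.extZeroUnit U.1.ι ⟶ I, i ≫ ψ = φ) : Injective I := by
  haveI : IsGrothendieckAbelian.{u} X.Modules := inferInstance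
  exact SiteBase.injective_of_extend I (fun U : X.affineOpens => CxOX.extZeroUnit U.1.ι)
    (fun p _ hp => exists_not_factor p hp) (fun U S i _ φ => h U i φ)

variable {ι : Type u} (I : ι → X.Modules) [HasCoproduct I]

omit [IsLocallyNoetherian X] in
/-- Projection to a summand. -/
def proj (k : ι) : ∐ I ⟶ I k := by
  classical
  exact Sigma.desc fun i => if h : i = k then eqToHom (congrArg I h) else 0

omit [IsLocallyNoetherian X] in
/-- Projection to finitely many summands. -/
def projF (F : Finset ι) : ∐ I ⟶ ∐ I := ∑ k ∈ F, proj I k ≫ Sigma.ι I k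

omit [IsLocallyNoetherian X] in
theorem ι_projF [DecidableEq ι] (F : Finset ι) {i : ι} (hi : i ∈ F) : Sigma.ι I i ≫ projF I F = Sigma.ι I i := by
  rw [projF, Preadditive.comp_sum, Finset.sum_eq_single i]
  · rw [proj, Sigma.ι_desc_assoc, dif_pos rfl, eqToHom_refl, Category.id_comp]
  · intro k _ hk
    rw [proj, Sigma.ι_desc_assoc, dif_neg (Ne.symm hk), zero_comp]
  · exact fun h => absurd hi h

omit [IsLocallyNoetherian X] in
theorem projF_comp [DecidableEq ι] {F F' : Finset ι} (h : F ⊆ F') : projF I F ≫ projF I F' = projF I F := by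
  refine Sigma.hom_ext _ _ fun i => ?_
  by_cases hi : i ∈ F
  · rw [← Category.assoc, ι_projF I F hi, ι_projF I F' (h hi)]
  · have h0 : Sigma.ι I i ≫ projF I F = 0 := by
      rw [projF, Preadditive.comp_sum]
      refine Finset.sum_eq_zero fun k hk => ?_
      rw [proj, Sigma.ι_desc_assoc, dif_neg (fun e : i = k => hi (e.symm ▸ hk)), zero_comp]
    rw [← Category.assoc, h0, zero_comp]

omit [IsLocallyNoetherian X] in
theorem exists_projF_stalk [DecidableEq ι] (x : X) (z : (∐ I).presheaf.stalk x) :
    ∃ F : Finset ι, stalkLin (projF I F) x z = z := by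
  let T : Submodule (X.presheaf.stalk x) ((∐ I).presheaf.stalk x) :=
    ⨆ i, LinearMap.range (stalkLin (Sigma.ι I i) x)
  suffices hT : z ∈ T by
    induction hT using Submodule.iSup_induction' with
    | mem i w hw =>
      obtain ⟨v, rfl⟩ := hw
      refine ⟨{i}, ?_⟩
      rw [← LinearMap.comp_apply, ← stalkLin_comp, ι_projF I _ (Finset.mem_singleton_self i)]
    | zero => exact ⟨∅, map_zero _⟩
    | add v w _ _ hv hw =>
      obtain ⟨F, hF⟩ := hv
      obtain ⟨F', hF'⟩ := hw
      refine ⟨F ∪ F', ?_⟩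
      rw [map_add]
      congr 1
      · conv_lhs => rw [← hF]
        rw [← LinearMap.comp_apply, ← stalkLin_comp, projF_comp I Finset.subset_union_left, hF]
      · conv_lhs => rw [← hF']
        rw [← LinearMap.comp_apply, ← stalkLin_comp, projF_comp I Finset.subset_union_right, hF']
  let N := ModuleCat.of (X.presheaf.stalk x) ((∐ I).presheaf.stalk x ⧸ T)
  let q : (stkF x).obj (∐ I) ⟶ N := ModuleCat.ofHom T.mkQ
  have hq : stalkSkyEquiv x (∐ I) N q = stalkSkyEquiv x (∐ I) N 0 := by
    refine Sigma.hom_ext _ _ fun i => ?_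
    rw [← stalkSkyEquiv_naturality, ← stalkSkyEquiv_naturality, comp_zero]
    refine congrArg _ (ModuleCat.hom_ext (LinearMap.ext fun w => ?_))
    exact (Submodule.Quotient.mk_eq_zero T).2
      (le_iSup (fun i => LinearMap.range (stalkLin (Sigma.ι I i) x)) i ⟨w, rfl⟩)
  exact (Submodule.Quotient.mk_eq_zero T).1
    (LinearMap.congr_fun (congrArg ModuleCat.Hom.hom ((stalkSkyEquiv x (∐ I) N).injective hq)) z)

/-- Sums of injective modules are injective. -/
theorem injective_coproduct (hI : ∀ k, Injective (I k)) : Injective (∐ I) := by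
  classical
  refine injective_of_extend_affine _ fun U S i _ φ => ?_
  haveI := isNoetherianObject_extZeroUnit_ι U.1 U.2
  haveI : IsNoetherianObject S := LocNoethLib.isNoetherian_of_mono i
  let K : Finset ι → Subobject S := fun F => kernelSubobject (φ - φ ≫ projF I F)
  obtain ⟨_, ⟨F, rfl⟩, hmax⟩ := (IsWellFounded.wf (r := (· > · : Subobject S → Subobject S → Prop))).has_min
    (Set.range K) ⟨K ∅, ∅, rfl⟩
  have hφ : φ = φ ≫ projF I F := by
    rw [← sub_eq_zero]
    refine (eq_zero_iff_stalk _).2 fun x => LinearMap.ext fun w => ?_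
    obtain ⟨F₁, hF₁⟩ := exists_projF_stalk I x (stalkLin φ x w)
    let F' := F ∪ F₁
    have hle : K F ≤ K F' := by
      refine le_kernelSubobject _ _ ?_
      have h0 := kernelSubobject_arrow_comp (φ - φ ≫ projF I F)
      rw [Preadditive.comp_sub, sub_eq_zero] at h0 ⊢
      calc (K F).arrow ≫ φ = (K F).arrow ≫ φ ≫ projF I F := h0
        _ = (K F).arrow ≫ φ ≫ projF I F ≫ projF I F' := by rw [projF_comp I Finset.subset_union_left]
        _ = ((K F).arrow ≫ φ ≫ projF I F) ≫ projF I F' := by simp only [Category.assoc]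
        _ = ((K F).arrow ≫ φ) ≫ projF I F' := congrArg (· ≫ projF I F') h0.symm
        _ = _ := Category.assoc _ _ _
    have heq : K F = K F' := (eq_or_lt_of_le hle).resolve_right (hmax _ ⟨F', rfl⟩)
    have hw : stalkLin (φ - φ ≫ projF I F') x w = 0 := by
      rw [stalkLin_sub, LinearMap.sub_apply, stalkLin_comp, LinearMap.comp_apply, sub_eq_zero]
      conv_rhs => rw [← hF₁]
      rw [← LinearMap.comp_apply, ← stalkLin_comp, projF_comp I Finset.subset_union_right, hF₁]
    obtain ⟨v, hv⟩ := exists_stalk_kernel (φ - φ ≫ projF I F') x w hw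
    have hz : (K F').arrow ≫ (φ - φ ≫ projF I F) = 0 := by
      rw [← Subobject.ofLE_arrow heq.ge, Category.assoc, kernelSubobject_arrow_comp, comp_zero]
    rw [← hv, ← LinearMap.comp_apply, ← stalkLin_comp]
    rw [(eq_zero_iff_stalk _).1 hz x]
    rfl
  refine ⟨∑ k ∈ F, Injective.factorThru (φ ≫ proj I k) i ≫ Sigma.ι I k, ?_⟩
  rw [Preadditive.comp_sum]
  conv_rhs => rw [hφ, projF, Preadditive.comp_sum]
  refine Finset.sum_congr rfl fun k _ => ?_
  rw [Injective.comp_factorThru_assoc, Category.assoc]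

end Groth.Agent.LocNoethMod
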