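import Groth.Agent.PullbackMod.Hom
import Groth.Agent.StalkHomLib.Lift
import Groth.Agent.LocNoethLib
import Mathlib.AlgebraicGeometry.Noetherian

/-!
# Cyclic modules supported on a noetherian affine open are noetherian objects
-/

set_option autoImplicit false
set_option backward.isDefEq.respectTransparency false
set_option linter.style.haveILetI false
universe u

open CategoryTheory Limits Opposite TopologicalSpace AlgebraicGeometry
open Groth.Agent.PullbackMod

noncomputable section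

namespace Groth.Agent.LocNoethMod

variable {X : Scheme.{u}} {M : X.Modules}

/-- The stalk of a subobject inside the stalk of the module. -/
def stS (S : Subobject M) (x : X) : Submodule (X.presheaf.stalk x) (M.presheaf.stalk x) :=
  LinearMap.range (stalkLin S.arrow x)

theorem stS_mono {S T : Subobject M} (h : S ≤ T) (x : X) : stS S x ≤ stS T x := by
  rw [stS, ← Subobject.ofLE_arrow h, stalkLin_comp]
  exact LinearMap.range_comp_le_range _ _

theorem eq_of_stS {S T : Subobject M} (h : S ≤ T) (he : ∀ x, stS T x ≤ stS S x) : S = T := by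
  haveI : IsIso (Subobject.ofLE S T h) := (isIso_iff_stalk _).2 fun x => by
    refine ⟨(mono_iff_stalk _).1 inferInstance x, fun z => ?_⟩
    obtain ⟨w, hw⟩ := he x (LinearMap.mem_range_self (stalkLin T.arrow x) z)
    refine ⟨w, (mono_iff_stalk T.arrow).1 inferInstance x ?_⟩
    rw [← hw, ← LinearMap.comp_apply, ← stalkLin_comp, Subobject.ofLE_arrow]
  exact le_antisymm h (Subobject.le_of_comm (inv (Subobject.ofLE S T h)) (by simp))

variable {W : X.Opens} (e : Γ(M, W))

/-- The sections of the structure sheaf carrying the generator into a subobject at a point. -/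
def secIdeal (S : Subobject M) (x : X) (hx : x ∈ W) : Ideal Γ(X, W) :=
  Ideal.comap (X.presheaf.germ W x hx).hom ((stS S x).comap (LinearMap.toSpanSingleton (X.presheaf.stalk x)
    (M.presheaf.stalk x) (M.presheaf.germ W x hx e)))

theorem mem_secIdeal {S : Subobject M} {x : X} {hx : x ∈ W} {a : Γ(X, W)} :
    a ∈ secIdeal e S x hx ↔ M.presheaf.germ W x hx (a • e) ∈ stS S x := by
  rw [StalkHomLib.germ_smul']
  exact Iff.rfl

theorem secIdeal_mono {S T : Subobject M} (h : S ≤ T) (x : X) (hx : x ∈ W) :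
    secIdeal e S x hx ≤ secIdeal e T x hx := fun _ ha =>
  (mem_secIdeal e).2 (stS_mono h x ((mem_secIdeal e).1 ha))

/-- Membership in a subobject spreads to an open neighbourhood. -/
theorem exists_nhd_secIdeal (S : Subobject M) {x : X} (hx : x ∈ W) {a : Γ(X, W)}
    (ha : a ∈ secIdeal e S x hx) :
    ∃ (V : X.Opens) (hVW : V ≤ W), x ∈ V ∧ ∀ (y : X) (hy : y ∈ V), a ∈ secIdeal e S y (hVW hy) := by
  obtain ⟨z, hz⟩ := (mem_secIdeal e).1 ha
  obtain ⟨U, hxU, s, rfl⟩ := TopCat.Presheaf.exists_germ_eq _ z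
  rw [stalkLin_germ] at hz
  obtain ⟨V, hxV, i, j, hij⟩ := TopCat.Presheaf.germ_eq M.presheaf x hxU hx _ _ hz
  refine ⟨V, j.le, hxV, fun y hy => (mem_secIdeal e).2 ?_⟩
  refine ⟨(S : X.Modules).presheaf.germ U y (i.le hy) s, ?_⟩
  rw [stalkLin_germ, ← TopCat.Presheaf.germ_res_apply M.presheaf i y hy,
    ← TopCat.Presheaf.germ_res_apply M.presheaf j y hy (a • e), hij]

theorem stS_le_of_secIdeal (hW : IsAffineOpen W) {x : X} (hx : x ∈ W)
    (hgen : Function.Surjective fun r : X.presheaf.stalk x => r • M.presheaf.germ W x hx e)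
    {S T : Subobject M} (h : secIdeal e S x hx ≤ secIdeal e T x hx) : stS S x ≤ stS T x := by
  intro w hw
  obtain ⟨r, rfl⟩ := hgen w
  letI : Algebra Γ(X, W) (X.presheaf.stalk x) :=
    TopCat.Presheaf.algebra_section_stalk X.presheaf ⟨x, hx⟩
  haveI := hW.isLocalization_stalk ⟨x, hx⟩
  obtain ⟨⟨a, d⟩, had⟩ := IsLocalization.surj (hW.primeIdealOf ⟨x, hx⟩).asIdeal.primeCompl r
  have hu : IsUnit (X.presheaf.germ W x hx d.1) := IsLocalization.map_units _ d
  have had' : r * X.presheaf.germ W x hx d.1 = X.presheaf.germ W x hx a := had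
  have key : X.presheaf.germ W x hx a • M.presheaf.germ W x hx e ∈ stS T x := by
    refine h (show X.presheaf.germ W x hx a • M.presheaf.germ W x hx e ∈ stS S x from ?_)
    rw [← had', mul_comm, mul_smul]
    exact (stS S x).smul_mem _ hw
  rw [← had', mul_comm, mul_smul] at key
  obtain ⟨v, hv⟩ := hu
  rw [← hv] at key
  simpa [smul_smul] using (stS T x).smul_mem (↑v⁻¹ : X.presheaf.stalk x) key

/-- Membership is inherited by generisations. -/
theorem mem_secIdeal_of_specializes {S : Subobject M} {η x : X} (hsp : η ⤳ x) (hη : η ∈ W) (hx : x ∈ W)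
    {a : Γ(X, W)} (ha : a ∈ secIdeal e S x hx) : a ∈ secIdeal e S η hη := by
  obtain ⟨V, hVW, hxV, hV⟩ := exists_nhd_secIdeal e S hx ha
  exact hV η (hsp.mem_open V.2 hxV)

variable (hW : IsAffineOpen W) [IsNoetherianRing Γ(X, W)] (c : ℕ →o Subobject M)

/-- The chain is stable on a set. -/
def StableOn (Z : Set W) : Prop :=
  ∃ n, ∀ m, n ≤ m → ∀ y ∈ Z, secIdeal e (c m) y.1 y.2 ≤ secIdeal e (c n) y.1 y.2

include hW in
theorem stableOn_closeds (Z : Closeds W) : StableOn e c (Z : Set W) := by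
  haveI : IsLocallyNoetherian (W : Scheme.{u}) := isLocallyNoetherian_of_isOpenImmersion hW.isoSpec.hom
  haveI : CompactSpace ↥(W : Scheme.{u}) := isCompact_iff_compactSpace.1 hW.isCompact
  haveI : IsNoetherian (W : Scheme.{u}) := ⟨⟩
  haveI : NoetherianSpace ↥(W : Scheme.{u}) := inferInstance
  haveI : QuasiSober ↥(W : Scheme.{u}) := inferInstance
  haveI : NoetherianSpace ↥W := ‹NoetherianSpace ↥(W : Scheme.{u})›
  haveI : QuasiSober ↥W := ‹QuasiSober ↥(W : Scheme.{u})›
  induction Z using WellFoundedLT.induction with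
  | _ Z ih =>
  by_cases hne : (Z : Set W).Nonempty
  swap
  · exact ⟨0, fun m _ y hy => absurd ⟨y, hy⟩ hne⟩
  by_cases hirr : IsPreirreducible (Z : Set W)
  swap
  · rw [isPreirreducible_iff_isClosed_union_isClosed] at hirr
    push Not at hirr
    obtain ⟨A, B, hA, hB, hAB, hnA, hnB⟩ := hirr
    have hlt : ∀ C : Set W, IsClosed C → ¬ (Z : Set W) ⊆ C →
        StableOn e c ((Z : Set W) ∩ C) := fun C hC hn =>
      ih ⟨(Z : Set W) ∩ C, Z.2.inter hC⟩
        (lt_of_le_not_ge (fun _ h => h.1) (fun h => hn fun y hy => (h hy).2))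
    obtain ⟨n₁, h₁⟩ := hlt A hA hnA
    obtain ⟨n₂, h₂⟩ := hlt B hB hnB
    refine ⟨max n₁ n₂, fun m hm y hy => ?_⟩
    rcases hAB hy with h | h
    · exact (h₁ m ((le_max_left _ _).trans hm) y ⟨hy, h⟩).trans (secIdeal_mono e (c.2 (le_max_left _ _)) _ _)
    · exact (h₂ m ((le_max_right _ _).trans hm) y ⟨hy, h⟩).trans (secIdeal_mono e (c.2 (le_max_right _ _)) _ _)
  obtain ⟨η, hη⟩ := QuasiSober.sober ⟨hne, hirr⟩ Z.2
  obtain ⟨n₀, hn₀⟩ := monotone_stabilizes_iff_noetherian.2 (inferInstanceAs (IsNoetherianRing Γ(X, W)))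
    ⟨fun n => secIdeal e (c n) η.1 η.2, fun _ _ h => secIdeal_mono e (c.2 h) _ _⟩
  obtain ⟨s, hs⟩ := IsNoetherian.noetherian (secIdeal e (c n₀) η.1 η.2)
  have hV : ∀ b : s, ∃ (V : X.Opens) (hVW : V ≤ W), η.1 ∈ V ∧
      ∀ (y : X) (hy : y ∈ V), b.1 ∈ secIdeal e (c n₀) y (hVW hy) := fun b =>
    exists_nhd_secIdeal e _ η.2 (hs ▸ Submodule.subset_span b.2)
  choose V hVW hηV hV using hV
  let O : Set W := ⋂ b : s, Subtype.val ⁻¹' (V b : Set X)
  have hO : IsOpen O := isOpen_iInter_of_finite fun b => (V b).2.preimage continuous_subtype_val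
  have hηO : η ∈ O := Set.mem_iInter.2 hηV
  obtain ⟨n₁, hn₁⟩ := ih ⟨(Z : Set W) \ O, Z.2.sdiff hO⟩
    (lt_of_le_not_ge (fun _ h => h.1) (fun h => (h hη.mem).2 hηO))
  refine ⟨max n₀ n₁, fun m hm y hy => ?_⟩
  by_cases hyO : y ∈ O
  swap
  · exact (hn₁ m ((le_max_right _ _).trans hm) y ⟨hy, hyO⟩).trans (secIdeal_mono e (c.2 (le_max_right _ _)) _ _)
  refine le_trans (fun a ha => ?_) (secIdeal_mono e (c.2 (le_max_left n₀ n₁)) _ _)
  have ha' : a ∈ secIdeal e (c n₀) η.1 η.2 :=
    (hn₀ m ((le_max_left _ _).trans hm)).ge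
      (mem_secIdeal_of_specializes e ((hη.specializes hy).map continuous_subtype_val) η.2 y.2 ha)
  rw [← hs] at ha'
  refine (Submodule.span_le.2 fun b hb => ?_) ha'
  exact hV ⟨b, hb⟩ y.1 (Set.mem_iInter.1 hyO ⟨b, hb⟩)

include hW in
theorem exists_stable (hgen : ∀ (x : X) (hx : x ∈ W),
      Function.Surjective fun r : X.presheaf.stalk x => r • M.presheaf.germ W x hx e)
    (hout : ∀ x : X, x ∉ W → Subsingleton (M.presheaf.stalk x)) :
    ∃ n, ∀ m, n ≤ m → c n = c m := by
  obtain ⟨n, hn⟩ := stableOn_closeds e hW c ⊤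
  refine ⟨n, fun m hm => eq_of_stS (c.2 hm) fun x => ?_⟩
  by_cases hx : x ∈ W
  · exact stS_le_of_secIdeal e hW hx (hgen x hx) (hn m hm ⟨x, hx⟩ trivial)
  · haveI := hout x hx
    intro w _
    rw [Subsingleton.elim w 0]
    exact Submodule.zero_mem _

end Groth.Agent.LocNoethMod
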