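import Groth.Agent.LocNoethMod.Cyclic
import Groth.Agent.DCohLib.LocLift
import Groth.Agent.DCohLib.SuppOpen
import Groth.Agent.DCohLib.ExtTensor
import Groth.Prelude.Def_CxOX
import Mathlib.CategoryTheory.Subobject.NoetherianObject

/-!
# Extensions by zero of structure sheaves are noetherian objects
-/

set_option autoImplicit false
set_option backward.isDefEq.respectTransparency false
set_option linter.style.haveILetI false
universe u

open CategoryTheory Limits Opposite TopologicalSpace AlgebraicGeometry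
open Groth.Agent.PullbackMod Groth.Agent.DCohLib

noncomputable section

namespace Groth.Agent.LocNoethMod

variable {X : Scheme.{u}}

theorem secHom_app_top_one {Y : Scheme.{u}} (N : Y.Modules) (s : Γ(N, ⊤)) :
    (secHom N s).app ⊤ (1 : Γ(Y, ⊤)) = s := by
  rw [secHom_app_one]
  exact (congrArg (fun g : (⊤ : Y.Opens) ⟶ ⊤ => N.presheaf.map g.op s) (Subsingleton.elim _ (𝟙 _))).trans
    (ConcreteCategory.congr_hom (N.presheaf.map_id (op ⊤)) s)

/-- Maps out of the structure sheaf are global sections. -/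
def unitEquiv {Y : Scheme.{u}} (N : Y.Modules) : (Coh.structureModule Y ⟶ N) ≃ Γ(N, ⊤) where
  toFun f := f.app ⊤ (1 : Γ(Y, ⊤))
  invFun := secHom N
  left_inv _ := hom_unit_ext (secHom_app_top_one _ _)
  right_inv := secHom_app_top_one N

/-- Maps out of an extension by zero of a structure sheaf are sections. -/
def secEquiv {U : Scheme.{u}} (j : U ⟶ X) [IsOpenImmersion j] (M : X.Modules) :
    (CxOX.extZeroUnit j ⟶ M) ≃ Γ(M, j ''ᵁ ⊤) :=
  ((CxOX.extZeroAdj j).homEquiv (Coh.structureModule U) M).trans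
    (unitEquiv ((Scheme.Modules.restrictFunctor j).obj M))

theorem secEquiv_comp {U : Scheme.{u}} (j : U ⟶ X) [IsOpenImmersion j] {M N : X.Modules}
    (a : CxOX.extZeroUnit j ⟶ M) (φ : M ⟶ N) :
    secEquiv j N (a ≫ φ) = φ.app (j ''ᵁ ⊤) (secEquiv j M a) := by
  show ((CxOX.extZeroAdj j).homEquiv _ N (a ≫ φ)).app ⊤ _ = _
  rw [Adjunction.homEquiv_naturality_right]
  rfl

/-- Extensions by zero of structure sheaves with the same image are isomorphic. -/
theorem nonempty_extZeroUnit_iso {U V : Scheme.{u}} (j : U ⟶ X) [IsOpenImmersion j] (k : V ⟶ X)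
    [IsOpenImmersion k] (h : j ''ᵁ ⊤ = k ''ᵁ ⊤) : Nonempty (CxOX.extZeroUnit j ≅ CxOX.extZeroUnit k) := by
  let cast : ∀ M : X.Modules, Γ(M, j ''ᵁ ⊤) → Γ(M, k ''ᵁ ⊤) := fun M => M.presheaf.map (homOfLE h.ge).op
  let cast' : ∀ M : X.Modules, Γ(M, k ''ᵁ ⊤) → Γ(M, j ''ᵁ ⊤) := fun M => M.presheaf.map (homOfLE h.le).op
  have h1 : ∀ (M : X.Modules) (s : Γ(M, j ''ᵁ ⊤)), cast' M (cast M s) = s := fun M s =>
    (ConcreteCategory.comp_apply _ _ s).symm.trans (by
      rw [← M.presheaf.map_comp, show (homOfLE h.ge).op ≫ (homOfLE h.le).op = 𝟙 _ from Subsingleton.elim _ _,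
        M.presheaf.map_id]
      rfl)
  have h2 : ∀ (M : X.Modules) (s : Γ(M, k ''ᵁ ⊤)), cast M (cast' M s) = s := fun M s =>
    (ConcreteCategory.comp_apply _ _ s).symm.trans (by
      rw [← M.presheaf.map_comp, show (homOfLE h.le).op ≫ (homOfLE h.ge).op = 𝟙 _ from Subsingleton.elim _ _,
        M.presheaf.map_id]
      rfl)
  let A := CxOX.extZeroUnit j
  let B := CxOX.extZeroUnit k
  let a : A ⟶ B := (secEquiv j B).symm (cast' B (secEquiv k B (𝟙 B)))
  let b : B ⟶ A := (secEquiv k A).symm (cast A (secEquiv j A (𝟙 A)))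
  refine ⟨⟨a, b, (secEquiv j A).injective ?_, (secEquiv k B).injective ?_⟩⟩
  · rw [secEquiv_comp, show secEquiv j B a = _ from Equiv.apply_symm_apply _ _,
      app_natural b h.le, ← secEquiv_comp, Category.id_comp]
    rw [show secEquiv k A b = _ from Equiv.apply_symm_apply _ _]
    exact h1 A _
  · rw [secEquiv_comp, show secEquiv k A b = _ from Equiv.apply_symm_apply _ _,
      app_natural a h.ge, ← secEquiv_comp, Category.id_comp]
    rw [show secEquiv j B a = _ from Equiv.apply_symm_apply _ _]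
    exact h2 B _

theorem isNoetherianObject_extZeroUnit_ι [IsLocallyNoetherian X] (U : X.Opens) (hU : IsAffineOpen U) :
    IsNoetherianObject (CxOX.extZeroUnit U.ι) := by
  rw [isNoetherianObject_iff_monotone_chain_condition]
  intro c
  let W := U.ι ''ᵁ ⊤
  have hWU : W = U := U.ι_image_top
  have hW : IsAffineOpen W := hWU.symm ▸ hU
  haveI : IsNoetherianRing Γ(X, W) := IsLocallyNoetherian.component_noetherian ⟨W, hW⟩
  let e : Γ(CxOX.extZeroUnit U.ι, W) := secEquiv U.ι _ (𝟙 _)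
  refine exists_stable e hW c (fun x hx z => ?_) (fun x hx => subsingleton_stalk_extZero U _ x fun h => hx (hWU.symm ▸ h))
  obtain ⟨O, hxO, s, rfl⟩ := TopCat.Presheaf.exists_germ_eq _ z
  let O' : (U : Scheme.{u}).Opens := U.ι ⁻¹ᵁ O
  have hxO' : x ∈ U.ι ''ᵁ O' := ⟨⟨x, hWU ▸ hx⟩, hxO, rfl⟩
  have hle : U.ι ''ᵁ O' ≤ O := U.ι.image_preimage_le O
  have hleW : U.ι ''ᵁ O' ≤ W := U.ι.image_mono le_top
  let φ : Coh.structureModule (U : Scheme.{u}) ⟶ (Scheme.Modules.restrictFunctor U.ι).obj (CxOX.extZeroUnit U.ι) :=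
    (CxOX.extZeroAdj U.ι).unit.app (Coh.structureModule (U : Scheme.{u}))
  haveI : IsIso φ := inferInstanceAs (IsIso ((CxOX.extZeroAdj U.ι).unit.app (Coh.structureModule (U : Scheme.{u}))))
  haveI : IsIso (φ.app O') := inferInstance
  obtain ⟨r, hr⟩ := (ConcreteCategory.bijective_of_isIso (φ.app O')).2
    ((CxOX.extZeroUnit U.ι).presheaf.map (homOfLE hle).op s)
  let r₀ : Γ(↑U, O') := r
  let r₁ : Γ(X, U.ι ''ᵁ O') := (U.ι.appIso O').inv r₀
  refine ⟨X.presheaf.germ _ x hxO' r₁, ?_⟩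
  have he : e = φ.app ⊤ (1 : Γ(↑U, ⊤)) := by
    exact congrArg (fun g : Coh.structureModule (U : Scheme.{u}) ⟶
      (Scheme.Modules.restrictFunctor U.ι).obj (CxOX.extZeroUnit U.ι) => g.app ⊤ (1 : Γ(↑U, ⊤)))
      (Adjunction.homEquiv_id (CxOX.extZeroAdj U.ι) (Coh.structureModule (U : Scheme.{u})))
  have key : φ.app O' r = r₁ • (CxOX.extZeroUnit U.ι).presheaf.map (homOfLE hleW).op e := by
    rw [he]
    refine Eq.trans ?_ (congrArg (r₁ • ·) (app_one_natural φ (le_top : O' ≤ ⊤)).symm)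
    have hlin : φ.app O' (r₀ • (1 : Γ(↑U, O'))) = r₀ • φ.app O' (1 : Γ(↑U, O')) := φ.app_smul r₀ _
    rw [show r₀ • (1 : Γ(↑U, O')) = r₀ from mul_one r₀] at hlin
    exact hlin
  show X.presheaf.germ _ x hxO' r₁ • (CxOX.extZeroUnit U.ι).presheaf.germ W x hx e = _
  rw [← TopCat.Presheaf.germ_res_apply (CxOX.extZeroUnit U.ι).presheaf (homOfLE hleW) x hxO',
    ← StalkHomLib.germ_smul', ← key, hr, TopCat.Presheaf.germ_res_apply]

theorem isNoetherianObject_extZeroUnit [IsLocallyNoetherian X] {U : Scheme.{u}} [IsAffine U] (j : U ⟶ X)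
    [IsOpenImmersion j] : IsNoetherianObject (CxOX.extZeroUnit j) := by
  haveI := isNoetherianObject_extZeroUnit_ι _ (isAffineOpen_opensRange j)
  obtain ⟨e⟩ := nonempty_extZeroUnit_iso j.opensRange.ι j (by rw [j.opensRange.ι_image_top, j.image_top_eq_opensRange])
  exact LocNoethLib.isNoetherian_of_iso e

end Groth.Agent.LocNoethMod
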