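import Groth.Agent.LocNoethMod.Injective
import Groth.Agent.LocNoethMod.Cyclic

/-!
# Decomposition of injective modules on a locally noetherian scheme
-/

set_option autoImplicit false
set_option backward.isDefEq.respectTransparency false
set_option linter.style.haveILetI false
universe u

open CategoryTheory Limits Opposite TopologicalSpace AlgebraicGeometry
open Groth.Agent.PullbackMod Groth.Agent.DCohLib

noncomputable section

namespace Groth.Agent.LocNoethMod

variable {X : Scheme.{u}}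

theorem stalkLin_zero' {M N : X.Modules} (x : X) : stalkLin (0 : M ⟶ N) x = 0 := (eq_zero_iff_stalk _).1 rfl x

theorem stS_image {M N : X.Modules} (f : M ⟶ N) (x : X) :
    stS (imageSubobject f) x = LinearMap.range (stalkLin f x) := by
  have hs := (epi_iff_stalk (factorThruImageSubobject f)).1 inferInstance x
  have h : stalkLin f x = stalkLin (imageSubobject f).arrow x ∘ₗ stalkLin (factorThruImageSubobject f) x := by
    rw [← stalkLin_comp, imageSubobject_arrow_comp]
  rw [h, LinearMap.range_comp, LinearMap.range_eq_top.2 hs, Submodule.map_top]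
  rfl

theorem stS_kernel {M N : X.Modules} (f : M ⟶ N) (x : X) :
    stS (kernelSubobject f) x = LinearMap.ker (stalkLin f x) := by
  refine le_antisymm ?_ fun w hw => ?_
  · rintro _ ⟨v, rfl⟩
    rw [LinearMap.mem_ker, ← LinearMap.comp_apply, ← stalkLin_comp, kernelSubobject_arrow_comp, stalkLin_zero']
    rfl
  · exact exists_stalk_kernel f x w hw

theorem stS_bot {M : X.Modules} (x : X) : stS (⊥ : Subobject M) x = ⊥ := by
  rw [stS, Subobject.bot_arrow, stalkLin_zero', LinearMap.range_zero]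

theorem le_of_stS {M : X.Modules} {S T : Subobject M} (h : ∀ x, stS S x ≤ stS T x) : S ≤ T := by
  have h0 : S.arrow ≫ cokernel.π T.arrow = 0 := by
    refine (eq_zero_iff_stalk _).2 fun x => LinearMap.ext fun w => ?_
    obtain ⟨v, hv⟩ := h x ⟨w, rfl⟩
    rw [stalkLin_comp, LinearMap.comp_apply, ← hv, ← LinearMap.comp_apply, ← stalkLin_comp, cokernel.condition,
      stalkLin_zero']
    rfl
  exact Subobject.le_of_comm (Abelian.monoLift T.arrow S.arrow h0) (Abelian.monoLift_comp _ _ _)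

theorem eq_bot_of_stS {M : X.Modules} {S : Subobject M} (h : ∀ x, stS S x = ⊥) : S = ⊥ :=
  le_bot_iff.1 (le_of_stS fun x => (h x).trans_le bot_le)

/-- The intersection of two subobjects. -/
def sInter {M : X.Modules} (S T : Subobject M) : Subobject M :=
  imageSubobject ((kernelSubobject (S.arrow ≫ cokernel.π T.arrow)).arrow ≫ S.arrow)

theorem stS_sInter {M : X.Modules} (S T : Subobject M) (x : X) : stS (sInter S T) x = stS S x ⊓ stS T x := by
  rw [sInter, stS_image, stalkLin_comp, LinearMap.range_comp]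
  rw [show LinearMap.range (stalkLin (kernelSubobject (S.arrow ≫ cokernel.π T.arrow)).arrow x) =
    stS (kernelSubobject (S.arrow ≫ cokernel.π T.arrow)) x from rfl, stS_kernel]
  refine le_antisymm ?_ ?_
  · rintro _ ⟨v, hv, rfl⟩
    refine ⟨⟨v, rfl⟩, ?_⟩
    rw [SetLike.mem_coe, LinearMap.mem_ker, stalkLin_comp, LinearMap.comp_apply] at hv
    obtain ⟨w, hw⟩ := exists_stalk_kernel (cokernel.π T.arrow) x _ hv
    rw [← hw]
    exact ⟨stalkLin (Abelian.monoLift T.arrow (kernelSubobject (cokernel.π T.arrow)).arrow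
      (kernelSubobject_arrow_comp _)) x w, by
        rw [← LinearMap.comp_apply, ← stalkLin_comp, Abelian.monoLift_comp]⟩
  · rintro z ⟨⟨v, rfl⟩, ⟨w, hw⟩⟩
    refine ⟨v, ?_, rfl⟩
    rw [SetLike.mem_coe, LinearMap.mem_ker, stalkLin_comp, LinearMap.comp_apply, ← hw, ← LinearMap.comp_apply,
      ← stalkLin_comp, cokernel.condition, stalkLin_zero']
    rfl

/-- Subobjects meeting only in zero. -/
def Disj {M : X.Modules} (S T : Subobject M) : Prop := ∀ x, Disjoint (stS S x) (stS T x)

/-- `V` is essential in `S`. -/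
def EssIn {M : X.Modules} (V S : Subobject M) : Prop :=
  ∀ T : Subobject M, T ≤ S → Disj T V → T = ⊥

/-- An upper bound of a chain with the expected stalks. -/
theorem exists_chain_bound {M : X.Modules} (c : Set (Subobject M)) (hc : IsChain (· ≤ ·) c) (hne : c.Nonempty) :
    ∃ U : Subobject M, (∀ S ∈ c, S ≤ U) ∧ ∀ x, ∀ z ∈ stS U x, ∃ S ∈ c, z ∈ stS S x := by
  classical
  let ι := Shrink.{u} c
  let f : ι → c := (equivShrink c).symm
  let J : ι → X.Modules := fun i => ((f i).1 : X.Modules)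
  refine ⟨imageSubobject (Sigma.desc fun i => (f i).1.arrow), fun S hS => ?_, fun x z hz => ?_⟩
  · refine le_of_stS fun x => ?_
    rw [stS_image]
    rintro _ ⟨v, rfl⟩
    obtain ⟨i, hi⟩ : ∃ i, f i = ⟨S, hS⟩ := ⟨equivShrink c ⟨S, hS⟩, Equiv.symm_apply_apply _ _⟩
    have : S = (f i).1 := by rw [hi]
    subst this
    refine ⟨stalkLin (Sigma.ι J i) x v, ?_⟩
    rw [← LinearMap.comp_apply, ← stalkLin_comp, Sigma.ι_desc]
  · rw [stS_image] at hz
    obtain ⟨w, rfl⟩ := hz
    obtain ⟨F, hF⟩ := exists_projF_stalk J x w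
    obtain ⟨S, hS, hSF⟩ : ∃ S ∈ c, ∀ i ∈ F, (f i).1 ≤ S := by
      clear hF
      induction F using Finset.induction_on with
      | empty => exact ⟨hne.some, hne.some_mem, by simp⟩
      | insert i F _ ih =>
        obtain ⟨S, hS, hSF⟩ := ih
        rcases hc.total hS (f i).2 with h | h
        · exact ⟨(f i).1, (f i).2, fun j hj => (Finset.mem_insert.1 hj).elim (fun e => e ▸ le_rfl) fun hj => (hSF j hj).trans h⟩
        · exact ⟨S, hS, fun j hj => (Finset.mem_insert.1 hj).elim (fun e => e ▸ h) fun hj => hSF j hj⟩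
    refine ⟨S, hS, ?_⟩
    have hfac : ∃ g : ∐ J ⟶ (S : X.Modules), g ≫ S.arrow = projF J F ≫ Sigma.desc (fun i => (f i).1.arrow) := by
      refine ⟨∑ k ∈ F.attach, proj J k.1 ≫ Subobject.ofLE _ _ (hSF k.1 k.2), ?_⟩
      rw [projF, Preadditive.sum_comp, Preadditive.sum_comp, ← Finset.sum_attach F (fun k => (proj J k ≫ Sigma.ι J k) ≫ _)]
      refine Finset.sum_congr rfl fun k _ => ?_
      rw [Category.assoc, Category.assoc, Subobject.ofLE_arrow, Sigma.ι_desc]
    obtain ⟨g, hg⟩ := hfac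
    refine ⟨stalkLin g x w, ?_⟩
    rw [← LinearMap.comp_apply, ← stalkLin_comp, hg, stalkLin_comp, LinearMap.comp_apply, hF]

theorem exists_max_of_chains {M : X.Modules} (P : Subobject M → Prop) (S₀ : Subobject M) (h₀ : P S₀)
    (hP : ∀ c : Set (Subobject M), (∀ S ∈ c, P S) → IsChain (· ≤ ·) c → c.Nonempty → ∀ U : Subobject M,
      (∀ S ∈ c, S ≤ U) → (∀ x, ∀ z ∈ stS U x, ∃ S ∈ c, z ∈ stS S x) → P U) :
    ∃ S, S₀ ≤ S ∧ P S ∧ ∀ T, P T → S ≤ T → T = S := by
  obtain ⟨S, hle, hS⟩ := zorn_le_nonempty₀ {S | P S} (fun c hcP hc y hy => by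
    obtain ⟨U, hU, hUs⟩ := exists_chain_bound c hc ⟨y, hy⟩
    exact ⟨U, hP c hcP hc ⟨y, hy⟩ U hU hUs, hU⟩) S₀ h₀
  exact ⟨S, hle, hS.prop, fun T hT h => le_antisymm (hS.le_of_ge hT h) h⟩

/-- A nonzero noetherian subobject contains a uniform one. -/
theorem exists_uniform {M : X.Modules} (N : Subobject M) [IsNoetherianObject (N : X.Modules)] (hN : N ≠ ⊥) :
    ∃ V : Subobject M, V ≤ N ∧ V ≠ ⊥ ∧ ∀ A B : Subobject M, A ≤ V → B ≤ V → A ≠ ⊥ → B ≠ ⊥ → ¬ Disj A B := by
  classical
  let P : Subobject M → Prop := fun K => K ≤ N ∧ ∃ W, W ≤ N ∧ W ≠ ⊥ ∧ Disj W K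
  let f : {K : Subobject M // K ≤ N} → Subobject (N : X.Modules) := fun K => Subobject.mk (Subobject.ofLE K.1 N K.2)
  have hf : ∀ K K' : {K : Subobject M // K ≤ N}, f K ≤ f K' → K.1 ≤ K'.1 := fun K K' h => by
    refine Subobject.le_of_comm (Subobject.ofMkLEMk _ _ h) ?_
    conv_rhs => rw [← Subobject.ofLE_arrow K.2, ← Subobject.ofMkLEMk_comp h, Category.assoc, Subobject.ofLE_arrow]
  have hfmono : ∀ K K' : {K : Subobject M // K ≤ N}, K.1 ≤ K'.1 → f K ≤ f K' := fun K K' h =>
    Subobject.mk_le_mk_of_comm (Subobject.ofLE _ _ h) (Subobject.ofLE_comp_ofLE _ _ _ _ _)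
  obtain ⟨_, ⟨K, hKP, rfl⟩, hmax⟩ :=
    (IsWellFounded.wf (r := (· > · : Subobject (N : X.Modules) → _ → Prop))).has_min
    {S | ∃ K : {K : Subobject M // K ≤ N}, P K.1 ∧ f K = S}
    ⟨_, ⟨⊥, bot_le⟩, ⟨bot_le, N, le_rfl, hN, fun x => by rw [stS_bot]; exact disjoint_bot_right⟩, rfl⟩
  obtain ⟨-, W, hWN, hW, hWK⟩ := hKP
  refine ⟨W, hWN, hW, fun A B hA hB hA0 hB0 hAB => ?_⟩
  let K' : Subobject M := imageSubobject (biprod.desc K.1.arrow A.arrow)
  have hK' : ∀ x, stS K' x = stS K.1 x ⊔ stS A x := fun x => by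
    rw [stS_image]
    refine le_antisymm ?_ (sup_le ?_ ?_)
    · rintro _ ⟨v, rfl⟩
      have h : biprod.desc K.1.arrow A.arrow = biprod.fst ≫ K.1.arrow + biprod.snd ≫ A.arrow := biprod.desc_eq
      rw [h, show stalkLin (biprod.fst ≫ K.1.arrow + biprod.snd ≫ A.arrow) x =
        stalkLin (biprod.fst ≫ K.1.arrow) x + stalkLin (biprod.snd ≫ A.arrow) x from
          LinearMap.ext fun z => LinearMap.congr_fun (congrArg ModuleCat.Hom.hom ((stkF x).map_add)) z,
        LinearMap.add_apply, stalkLin_comp, stalkLin_comp]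
      exact Submodule.add_mem_sup ⟨_, rfl⟩ ⟨_, rfl⟩
    · rintro _ ⟨v, rfl⟩
      exact ⟨stalkLin biprod.inl x v, by rw [← LinearMap.comp_apply, ← stalkLin_comp, biprod.inl_desc]⟩
    · rintro _ ⟨v, rfl⟩
      exact ⟨stalkLin biprod.inr x v, by rw [← LinearMap.comp_apply, ← stalkLin_comp, biprod.inr_desc]⟩
  have hK'N : K' ≤ N := le_of_stS fun x => by
    rw [hK']; exact sup_le (stS_mono K.2 x) (stS_mono (hA.trans hWN) x)
  have hKK' : K.1 ≤ K' := le_of_stS fun x => by rw [hK']; exact le_sup_left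
  have hP' : P K' := ⟨hK'N, B, hB.trans hWN, hB0, fun x => by
    rw [hK', Submodule.disjoint_def]
    intro z hzB hz
    obtain ⟨k, hk, a, ha, rfl⟩ := Submodule.mem_sup.1 hz
    have hkW : k ∈ stS W x := by
      have := Submodule.sub_mem _ (stS_mono hB x hzB) (stS_mono hA x ha)
      rwa [add_sub_cancel_right] at this
    have hk0 : k = 0 := Submodule.disjoint_def.1 (hWK x) k hkW hk
    rw [hk0, zero_add] at hzB ⊢
    exact Submodule.disjoint_def.1 (hAB x) a ha hzB⟩
  have hlt : f K < f ⟨K', hK'N⟩ := by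
    refine lt_of_le_not_ge (hfmono _ _ hKK') fun h => hA0 (eq_bot_of_stS fun x => ?_)
    have h1 : stS A x ≤ stS K.1 x := (le_sup_right.trans (hK' x).ge).trans (stS_mono (hf _ _ h) x)
    exact (Submodule.eq_bot_iff _).2 fun z hz => Submodule.disjoint_def.1 (hWK x) z (stS_mono hA x hz) (h1 hz)
  exact hmax _ ⟨⟨K', hK'N⟩, hP', rfl⟩ hlt

/-- A uniform subobject of an injective module lies essentially in an indecomposable injective summand. -/
theorem exists_hull {I : X.Modules} [Injective I] (V : Subobject I) (hV : V ≠ ⊥)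
    (huni : ∀ A B : Subobject I, A ≤ V → B ≤ V → A ≠ ⊥ → B ≠ ⊥ → ¬ Disj A B) :
    ∃ E : Subobject I, Injective (E : X.Modules) ∧ ¬ IsZero (E : X.Modules) ∧ EssIn V E ∧
      ∀ A B : X.Modules, Nonempty ((E : X.Modules) ≅ A ⊞ B) → IsZero A ∨ IsZero B := by
  classical
  obtain ⟨E, -, ⟨hVE, hess⟩, hEmax⟩ := exists_max_of_chains (fun S : Subobject I => V ≤ S ∧ EssIn V S) V
    ⟨le_rfl, fun T hT hd => eq_bot_of_stS fun x => (Submodule.eq_bot_iff _).2 fun z hz =>
      Submodule.disjoint_def.1 (hd x) z hz (stS_mono hT x hz)⟩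
    (fun c hcP _ hne U hU hUs => ⟨(hcP _ hne.some_mem).1.trans (hU _ hne.some_mem), fun T hT hd => by
      refine eq_bot_of_stS fun x => (Submodule.eq_bot_iff _).2 fun z hz => ?_
      obtain ⟨S, hS, hzS⟩ := hUs x z (stS_mono hT x hz)
      have h0 : sInter T S = ⊥ := (hcP S hS).2 _ (le_of_stS fun y => by rw [stS_sInter]; exact inf_le_right)
        fun y => by rw [stS_sInter]; exact (hd y).mono_left inf_le_left
      have : z ∈ stS (sInter T S) x := by rw [stS_sInter]; exact ⟨hz, hzS⟩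
      rw [h0, stS_bot] at this
      exact this⟩)
  obtain ⟨K, -, hKE, hKmax⟩ := exists_max_of_chains (fun S : Subobject I => Disj S E) ⊥
    (fun x => by rw [stS_bot]; exact disjoint_bot_left)
    (fun c hcP _ _ U _ hUs x => Submodule.disjoint_def.2 fun z hz hzE => by
      obtain ⟨S, hS, hzS⟩ := hUs x z hz
      exact Submodule.disjoint_def.1 (hcP S hS x) z hzS hzE)
  let π := cokernel.π K.arrow
  have hker : ∀ x, LinearMap.ker (stalkLin π x) = stS K x := fun x => by
    rw [← stS_kernel]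
    refine le_antisymm (stS_mono (le_of_eq ?_) x) (stS_mono (le_of_eq ?_) x) <;>
    · first
        | exact (Abelian.kernelSubobject_cokernel_π K)
        | exact (le_antisymm (le_kernelSubobject _ _ (cokernel.condition _))
            (Subobject.le_of_comm (Abelian.monoLift K.arrow _ (kernelSubobject_arrow_comp π)) (Abelian.monoLift_comp _ _ _)))
        | exact (le_antisymm (le_kernelSubobject _ _ (cokernel.condition _))
            (Subobject.le_of_comm (Abelian.monoLift K.arrow _ (kernelSubobject_arrow_comp π)) (Abelian.monoLift_comp _ _ _))).symm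
  have hj : ∀ x, Function.Injective (stalkLin (E.arrow ≫ π) x) := fun x => by
    rw [← LinearMap.ker_eq_bot, Submodule.eq_bot_iff]
    intro w hw
    rw [LinearMap.mem_ker, stalkLin_comp, LinearMap.comp_apply, ← LinearMap.mem_ker, hker] at hw
    exact (mono_iff_stalk E.arrow).1 inferInstance x
      ((Submodule.disjoint_def.1 (hKE x) _ hw ⟨w, rfl⟩).trans (map_zero _).symm)
  haveI : Mono (E.arrow ≫ π) := (mono_iff_stalk _).2 hj
  obtain ⟨ψ, hψ⟩ : ∃ ψ, (E.arrow ≫ π) ≫ ψ = E.arrow :=
    ⟨Injective.factorThru E.arrow (E.arrow ≫ π), Injective.comp_factorThru _ _⟩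
  let φ := π ≫ ψ
  have hφE : ∀ x, ∀ z ∈ stS E x, stalkLin φ x z = z := fun x z hz => by
    obtain ⟨w, rfl⟩ := hz
    rw [← LinearMap.comp_apply, ← stalkLin_comp, show E.arrow ≫ φ = E.arrow by rw [← Category.assoc]; exact hψ]
  -- the image of the extension is an essential extension of `E`
  have hEimg : E ≤ imageSubobject φ := le_of_stS fun x z hz => by
    rw [stS_image]; exact ⟨z, hφE x z hz⟩
  have hsmall : ∀ T : Subobject I, Disj T E → ∀ x, ∀ z, stalkLin φ x z ∈ stS T x → stalkLin φ x z = 0 := by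
    intro T hT x z hz
    let T' := kernelSubobject (φ ≫ cokernel.π T.arrow)
    have hT' : ∀ y, ∀ a, a ∈ stS T' y ↔ stalkLin φ y a ∈ stS T y := fun y a => by
      have hk : LinearMap.ker (stalkLin (cokernel.π T.arrow) y) = stS T y := by
        refine le_antisymm (fun b hb => ?_) ?_
        · obtain ⟨v, hv⟩ := exists_stalk_kernel _ y b hb
          rw [← hv]
          exact ⟨stalkLin (Abelian.monoLift T.arrow _ (kernelSubobject_arrow_comp _)) y v, by
            rw [← LinearMap.comp_apply, ← stalkLin_comp, Abelian.monoLift_comp]⟩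
        · rintro _ ⟨v, rfl⟩
          rw [LinearMap.mem_ker, ← LinearMap.comp_apply, ← stalkLin_comp, cokernel.condition, stalkLin_zero']
          rfl
      rw [stS_kernel, LinearMap.mem_ker, stalkLin_comp, LinearMap.comp_apply, ← LinearMap.mem_ker, hk]
    have hKT' : K ≤ T' := le_of_stS fun y a ha => (hT' y a).2 (by
      rw [stalkLin_comp, LinearMap.comp_apply, show stalkLin π y a = 0 from (hker y).ge ha, map_zero]
      exact Submodule.zero_mem _)
    have hd : Disj T' E := fun y => Submodule.disjoint_def.2 fun a ha haE =>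
      Submodule.disjoint_def.1 (hT y) a (hφE y a haE ▸ (hT' y a).1 ha) haE
    have hz' : z ∈ stS K x := hKmax T' hd hKT' ▸ (hT' x z).2 hz
    rw [stalkLin_comp, LinearMap.comp_apply, show stalkLin π x z = 0 from (hker x).ge hz', map_zero]
  have himgE : imageSubobject φ = E := hEmax _ ⟨hVE.trans hEimg, fun T hT hd => eq_bot_of_stS fun x => by
    have hdE : Disj T E := by
      have h0 : sInter T E = ⊥ := hess _ (le_of_stS fun y => by rw [stS_sInter]; exact inf_le_right)
        fun y => by rw [stS_sInter]; exact (hd y).mono_left inf_le_left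
      intro y
      rw [disjoint_iff, ← stS_sInter, h0, stS_bot]
    refine (Submodule.eq_bot_iff _).2 fun z hz => ?_
    have hzi := stS_mono hT x hz
    rw [stS_image] at hzi
    obtain ⟨a, rfl⟩ := hzi
    exact hsmall T hdE x a hz⟩ hEimg
  let r : I ⟶ (E : X.Modules) := factorThruImageSubobject φ ≫ Subobject.ofLE _ _ himgE.le
  have hr : E.arrow ≫ r = 𝟙 _ := by
    rw [← cancel_mono E.arrow, Category.assoc, Category.id_comp, Category.assoc, Subobject.ofLE_arrow,
      imageSubobject_arrow_comp, ← Category.assoc, hψ]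
  have hinj : Injective (E : X.Modules) :=
    ⟨fun {A B} g f _ => ⟨Injective.factorThru (g ≫ E.arrow) f ≫ r, by
      rw [← Category.assoc, Injective.comp_factorThru, Category.assoc, hr, Category.comp_id]⟩⟩
  have hz : ¬ IsZero (E : X.Modules) := fun hz => hV (eq_bot_of_stS fun x => by
    refine le_bot_iff.1 ((stS_mono hVE x).trans ?_)
    rw [stS, hz.eq_of_src E.arrow 0, stalkLin_zero', LinearMap.range_zero])
  refine ⟨E, hinj, hz, hess, fun A B ⟨e⟩ => ?_⟩
  let iA : A ⟶ I := biprod.inl ≫ e.inv ≫ E.arrow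
  let iB : B ⟶ I := biprod.inr ≫ e.inv ≫ E.arrow
  by_contra hc
  push Not at hc
  have hAE : ∀ {C : X.Modules} (i : C ⟶ I), (∃ g, g ≫ E.arrow = i) → Mono i → ¬ IsZero C →
      sInter (imageSubobject i) V ≠ ⊥ := by
    intro C i ⟨g, hg⟩ hi hC h0
    have hle : imageSubobject i ≤ E := imageSubobject_le i g hg
    have := hess _ hle fun y => by rw [disjoint_iff, ← stS_sInter, h0, stS_bot]
    refine hC (IsZero.of_mono_eq_zero i ((eq_zero_iff_stalk _).2 fun x => LinearMap.range_eq_bot.1 ?_))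
    rw [← stS_image, this, stS_bot]
  haveI : Mono iA := inferInstance
  haveI : Mono iB := inferInstance
  refine huni (sInter (imageSubobject iA) V) (sInter (imageSubobject iB) V)
    (le_of_stS fun y => by rw [stS_sInter]; exact inf_le_right)
    (le_of_stS fun y => by rw [stS_sInter]; exact inf_le_right)
    (hAE iA ⟨biprod.inl ≫ e.inv, Category.assoc _ _ _⟩ inferInstance hc.1)
    (hAE iB ⟨biprod.inr ≫ e.inv, Category.assoc _ _ _⟩ inferInstance hc.2) fun x => ?_
  rw [stS_sInter, stS_sInter, stS_image, stS_image]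
  refine Disjoint.mono inf_le_left inf_le_left (Submodule.disjoint_def.2 ?_)
  rintro _ ⟨a, rfl⟩ ⟨b, hb⟩
  let P : I ⟶ A := r ≫ e.hom ≫ biprod.fst
  have h1 : iA ≫ P = 𝟙 A := by simp [iA, P, reassoc_of% hr]
  have h2 : iB ≫ P = 0 := by simp [iB, P, reassoc_of% hr]
  have h3 := congrArg (stalkLin P x) hb
  rw [← LinearMap.comp_apply, ← stalkLin_comp, h2, stalkLin_zero', LinearMap.zero_apply, ← LinearMap.comp_apply,
    ← stalkLin_comp, h1, stalkLin_id, LinearMap.id_apply] at h3
  rw [← h3, map_zero]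

variable [IsLocallyNoetherian X]

/-- An injective module is a sum of indecomposable ones. -/
theorem exists_decomposition (I : X.Modules) [Injective I] :
    ∃ (ι : Type u) (J : ι → X.Modules), (∀ i, Injective (J i)) ∧ (∀ i, ¬ IsZero (J i)) ∧
      (∀ i (A B : X.Modules), Nonempty (J i ≅ A ⊞ B) → IsZero A ∨ IsZero B) ∧ Nonempty (I ≅ ∐ J) := by
  classical
  let Sh := Shrink.{u} (Subobject I)
  let sub : Sh → Subobject I := (equivShrink (Subobject I)).symm
  let Good : Sh → Prop := fun s => Injective (sub s : X.Modules) ∧ ¬ IsZero (sub s : X.Modules) ∧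
    ∀ A B : X.Modules, Nonempty ((sub s : X.Modules) ≅ A ⊞ B) → IsZero A ∨ IsZero B
  let J : (s : Set Sh) → s → X.Modules := fun s i => (sub i.1 : X.Modules)
  let Φ : (s : Set Sh) → ∐ J s ⟶ I := fun s => Sigma.desc fun i => (sub i.1).arrow
  obtain ⟨s, hs⟩ := zorn_subset {s : Set Sh | (∀ i ∈ s, Good i) ∧ Mono (Φ s)} fun c hcP hc => by
    rcases c.eq_empty_or_nonempty with rfl | hne
    · refine ⟨∅, ⟨by simp, (mono_iff_stalk _).2 fun x => ?_⟩, by simp⟩
      rw [← LinearMap.ker_eq_bot, Submodule.eq_bot_iff]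
      intro z _
      obtain ⟨F, hF⟩ := exists_projF_stalk (J ∅) x z
      rw [← hF, show F = ∅ from Finset.eq_empty_of_forall_notMem fun i => i.2.elim, projF, Finset.sum_empty,
        stalkLin_zero', LinearMap.zero_apply]
    refine ⟨⋃₀ c, ⟨fun i ⟨t, ht, hi⟩ => (hcP ht).1 i hi, (mono_iff_stalk _).2 fun x => ?_⟩,
      fun t ht => Set.subset_sUnion_of_mem ht⟩
    rw [← LinearMap.ker_eq_bot, Submodule.eq_bot_iff]
    intro z hz
    obtain ⟨F, hF⟩ := exists_projF_stalk (J (⋃₀ c)) x z
    obtain ⟨t, ht, htF⟩ : ∃ t ∈ c, ∀ i ∈ F, i.1 ∈ t := by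
      clear hF
      induction F using Finset.induction_on with
      | empty => exact ⟨hne.some, hne.some_mem, by simp⟩
      | insert i F _ ih =>
        obtain ⟨t, ht, htF⟩ := ih
        obtain ⟨t', ht', hit'⟩ := i.2
        rcases hc.total ht ht' with h | h
        · exact ⟨t', ht', fun j hj => (Finset.mem_insert.1 hj).elim (fun e => e ▸ hit') fun hj => h (htF j hj)⟩
        · exact ⟨t, ht, fun j hj => (Finset.mem_insert.1 hj).elim (fun e => e ▸ h hit') fun hj => htF j hj⟩
    let l : ∐ J t ⟶ ∐ J (⋃₀ c) := Sigma.desc fun i => Sigma.ι (J (⋃₀ c)) ⟨i.1, t, ht, i.2⟩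
    have hl : l ≫ Φ (⋃₀ c) = Φ t := Sigma.hom_ext _ _ fun i => by simp [l, Φ]
    let g : ∐ J (⋃₀ c) ⟶ ∐ J t :=
      ∑ k ∈ F.attach, proj (J (⋃₀ c)) k.1 ≫ Sigma.ι (J t) ⟨k.1.1, htF k.1 k.2⟩
    have hg : g ≫ l = projF (J (⋃₀ c)) F := by
      rw [projF, Preadditive.sum_comp, ← Finset.sum_attach F (fun k => proj (J (⋃₀ c)) k ≫ Sigma.ι (J (⋃₀ c)) k)]
      exact Finset.sum_congr rfl fun k _ => by rw [Category.assoc, Sigma.ι_desc]
    have hw : stalkLin (Φ t) x (stalkLin g x z) = 0 := by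
      rw [← hl, stalkLin_comp, LinearMap.comp_apply, ← LinearMap.comp_apply (stalkLin l x), ← stalkLin_comp, hg, hF]
      exact hz
    haveI := (hcP ht).2
    have := (mono_iff_stalk (Φ t)).1 inferInstance x (hw.trans (map_zero _).symm)
    rw [← hF, ← hg, stalkLin_comp, LinearMap.comp_apply, this, map_zero]
  obtain ⟨hgood, hmono⟩ := hs.prop
  haveI := hmono
  haveI hinjJ : Injective (∐ J s) := injective_coproduct (J s) fun i => (hgood i.1 i.2).1
  let r : I ⟶ ∐ J s := Injective.factorThru (𝟙 _) (Φ s)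
  have hr : Φ s ≫ r = 𝟙 _ := Injective.comp_factorThru _ _
  by_cases hkr : kernel.ι r = 0
  · haveI : Mono r := Preadditive.mono_of_kernel_zero hkr
    haveI : IsSplitEpi r := IsSplitEpi.mk' ⟨Φ s, hr⟩
    haveI : IsIso r := isIso_of_mono_of_isSplitEpi r
    exact ⟨s, J s, fun i => (hgood i.1 i.2).1, fun i => (hgood i.1 i.2).2.1, fun i => (hgood i.1 i.2).2.2, ⟨asIso r⟩⟩
  exfalso
  have hnz : ¬ IsIso (0 : kernel (kernel.ι r) ⟶ kernel r) := fun h => hkr (by
    rw [← cancel_epi (0 : kernel (kernel.ι r) ⟶ kernel r), zero_comp, zero_comp])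
  haveI : Mono (0 : kernel (kernel.ι r) ⟶ kernel r) :=
    ⟨fun a b _ => (cancel_mono (kernel.ι (kernel.ι r))).1
      ((cancel_mono (kernel.ι r)).1 (by simp only [Category.assoc, kernel.condition, comp_zero]))⟩
  obtain ⟨U, g, hg⟩ := exists_not_factor (0 : kernel (kernel.ι r) ⟶ kernel r) hnz
  haveI := isNoetherianObject_extZeroUnit_ι U.1 U.2
  let g' := g ≫ kernel.ι r
  let N := imageSubobject g'
  haveI : IsNoetherianObject (N : X.Modules) := LocNoethLib.isNoetherian_of_epi (factorThruImageSubobject g')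
  have hN : N ≠ ⊥ := fun h => hg 0 (by
    rw [zero_comp, ← cancel_mono (kernel.ι r), zero_comp]
    symm
    show g' = 0
    rw [← imageSubobject_arrow_comp g']
    have : N.arrow = 0 := by rw [h, Subobject.bot_arrow]
    rw [this, comp_zero])
  obtain ⟨V, hVN, hV0, huni⟩ := exists_uniform N hN
  obtain ⟨E, hEi, hEz, hEess, hEind⟩ := exists_hull V hV0 huni
  have hdisj : Disj E (imageSubobject (Φ s)) := by
    have hNr : ∀ x, Disjoint (stS (imageSubobject (Φ s)) x) (stS N x) := fun x => Submodule.disjoint_def.2 fun z hz hzN => by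
      rw [stS_image] at hz hzN
      obtain ⟨a, rfl⟩ := hz
      obtain ⟨b, hb⟩ := hzN
      have h1 := congrArg (stalkLin r x) hb
      rw [← LinearMap.comp_apply, ← stalkLin_comp, ← LinearMap.comp_apply, ← stalkLin_comp, hr, stalkLin_id,
        show g' ≫ r = 0 by rw [Category.assoc, kernel.condition, comp_zero], stalkLin_zero', LinearMap.zero_apply,
        LinearMap.id_apply] at h1
      rw [← h1, map_zero]
    have h0 : sInter E (imageSubobject (Φ s)) = ⊥ := hEess _
      (le_of_stS fun y => by rw [stS_sInter]; exact inf_le_left)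
      fun y => by rw [stS_sInter]; exact ((hNr y).mono_right (stS_mono hVN y)).mono_left inf_le_right
    intro x
    rw [disjoint_iff, ← stS_sInter, h0, stS_bot]
  let e : Sh := equivShrink (Subobject I) E
  have hsube : sub e = E := Equiv.symm_apply_apply _ _
  have hes : e ∉ s := fun hmem => by
    refine hEz (IsZero.of_mono_eq_zero E.arrow ((eq_zero_iff_stalk _).2 fun x => LinearMap.range_eq_bot.1 ?_))
    have hle : stS E x ≤ stS (imageSubobject (Φ s)) x := by
      rw [stS_image, ← hsube]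
      rintro _ ⟨v, rfl⟩
      exact ⟨stalkLin (Sigma.ι (J s) ⟨e, hmem⟩) x v, by
        rw [← LinearMap.comp_apply, ← stalkLin_comp, Sigma.ι_desc]⟩
    exact (hdisj x).eq_bot_of_le hle
  refine hes (hs.le_of_ge (y := insert e s) ⟨?_, (mono_iff_stalk _).2 fun x => ?_⟩ (Set.subset_insert _ _) (Set.mem_insert _ _))
  · rintro i (rfl | hi)
    · show Injective _ ∧ ¬ IsZero _ ∧ _
      rw [hsube]; exact ⟨hEi, hEz, hEind⟩
    · exact hgood i hi
  rw [← LinearMap.ker_eq_bot, Submodule.eq_bot_iff]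
  intro z hz
  let q : ∐ J (insert e s) ⟶ ∐ J s := Sigma.desc fun i => if h : i.1 ∈ s then Sigma.ι (J s) ⟨i.1, h⟩ else 0
  let l : ∐ J s ⟶ ∐ J (insert e s) := Sigma.desc fun i => Sigma.ι (J (insert e s)) ⟨i.1, Set.mem_insert_of_mem _ i.2⟩
  let pe := proj (J (insert e s)) ⟨e, Set.mem_insert _ _⟩
  let ie := Sigma.ι (J (insert e s)) ⟨e, Set.mem_insert _ _⟩
  have hsum : q ≫ l + pe ≫ ie = 𝟙 _ := Sigma.hom_ext _ _ fun i => by
    rw [Preadditive.comp_add, Category.comp_id, Sigma.ι_desc_assoc]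
    by_cases h : i.1 ∈ s
    · have hne : i ≠ ⟨e, Set.mem_insert _ _⟩ := fun hi => hes (by rw [hi] at h; exact h)
      rw [dif_pos h, Sigma.ι_desc]
      simp only [pe, proj, Sigma.ι_desc_assoc, dif_neg hne, zero_comp, add_zero]
    · have hi : i = ⟨e, Set.mem_insert _ _⟩ := Subtype.ext ((Set.mem_insert_iff.1 i.2).resolve_right h)
      subst hi
      rw [dif_neg h, zero_comp, zero_add]
      simp [pe, ie, proj]
  have hl : l ≫ Φ (insert e s) = Φ s := Sigma.hom_ext _ _ fun i => by simp [l, Φ]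
  have hadd : ∀ {A B : X.Modules} (a b : A ⟶ B) (w : A.presheaf.stalk x), stalkLin (a + b) x w = stalkLin a x w + stalkLin b x w :=
    fun a b w => LinearMap.congr_fun (congrArg ModuleCat.Hom.hom ((stkF x).map_add (f := a) (g := b))) w
  have h1 : stalkLin (Φ s) x (stalkLin q x z) + stalkLin (sub e).arrow x (stalkLin pe x z) = 0 := by
    have h2 := congrArg (fun m => stalkLin (m ≫ Φ (insert e s)) x z) hsum
    simp only [Category.id_comp, Preadditive.add_comp, Category.assoc, hl] at h2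
    rw [show ie ≫ Φ (insert e s) = (sub e).arrow from Sigma.ι_desc _ _, hadd, stalkLin_comp, stalkLin_comp,
      LinearMap.comp_apply, LinearMap.comp_apply] at h2
    exact h2.trans hz
  have h3 : stalkLin (sub e).arrow x (stalkLin pe x z) = 0 := by
    refine Submodule.disjoint_def.1 (hdisj x) _ (hsube ▸ ⟨_, rfl⟩) ?_
    rw [stS_image, eq_neg_of_add_eq_zero_right h1, ← map_neg]
    exact ⟨_, rfl⟩
  rw [h3, add_zero] at h1
  have hqz := (mono_iff_stalk (Φ s)).1 inferInstance x (h1.trans (map_zero _).symm)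
  have hpz := (mono_iff_stalk (sub e).arrow).1 inferInstance x (h3.trans (map_zero _).symm)
  have h4 := congrArg (fun m => stalkLin m x z) hsum
  rw [hadd, stalkLin_comp, stalkLin_comp, LinearMap.comp_apply, LinearMap.comp_apply, hqz, hpz, map_zero, map_zero,
    add_zero, stalkLin_id, LinearMap.id_apply] at h4
  exact h4.symm

end Groth.Agent.LocNoethMod
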