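import Groth.Agent.LocNoethMod.Stalks
import Groth.Agent.ExtVanLib.Basic
import Groth.Agent.S12885

/-!
# Coherent modules with prescribed cyclic stalk, and Baer's criterion through Ext
-/

set_option autoImplicit false
set_option backward.isDefEq.respectTransparency false
set_option linter.style.haveILetI false
universe u

open CategoryTheory Limits Opposite TopologicalSpace AlgebraicGeometry Abelian
open Groth.Agent.PullbackMod Groth.Agent.DCohLib Groth.Agent.QCohLib Groth.Agent.DevLib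

noncomputable section

namespace Groth.Agent.LocNoethMod

theorem injective_of_ext_one {R : Type u} [CommRing R] (M : Type u) [AddCommGroup M] [Module R M]
    (h : ∀ J : Ideal R, Subsingleton (Ext.{u} (ModuleCat.of R (R ⧸ J)) (ModuleCat.of R M) 1)) :
    Module.Injective R M := by
  refine Module.Baer.injective fun J g => ?_
  let S : ShortComplex (ModuleCat.{u} R) :=
    ShortComplex.mk (ModuleCat.ofHom J.subtype) (ModuleCat.ofHom J.mkQ)
      (ModuleCat.hom_ext (LinearMap.ext fun r => (Submodule.Quotient.mk_eq_zero J).2 r.2))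
  have hS : S.ShortExact :=
    { exact := (ShortComplex.moduleCat_exact_iff S).2 fun r hr => ⟨⟨r, (Submodule.Quotient.mk_eq_zero J).1 hr⟩, rfl⟩
      mono_f := (ModuleCat.mono_iff_injective _).2 J.injective_subtype
      epi_g := (ModuleCat.epi_iff_surjective _).2 J.mkQ_surjective }
  haveI := h J
  obtain ⟨x₂, hx₂⟩ := Ext.contravariant_sequence_exact₁ hS (ModuleCat.of R M)
    (Ext.mk₀ (ModuleCat.ofHom g : S.X₁ ⟶ ModuleCat.of R M)) (n₁ := 1) rfl (Subsingleton.elim _ _)
  obtain ⟨ψ, rfl⟩ := (Ext.mk₀_bijective _ _).2 x₂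
  rw [Ext.mk₀_comp_mk₀] at hx₂
  exact ⟨ψ.hom, fun r hr => ConcreteCategory.congr_hom ((Ext.mk₀_bijective _ _).1 hx₂) ⟨r, hr⟩⟩

variable {X : Scheme.{u}} [IsLocallyNoetherian X]

theorem exists_coh_stalk_equiv (x : X) (J : Ideal (X.presheaf.stalk x)) :
    ∃ G : X.Modules, Coh.IsCoh G ∧
      Nonempty ((X.presheaf.stalk x ⧸ J) ≃ₗ[X.presheaf.stalk x] G.presheaf.stalk x) := by
  obtain ⟨W, hW, hx, -⟩ := exists_isAffineOpen_mem_and_subset (X := X) (x := x) (U := ⊤) trivial
  let γ : Γ(X, W) →+* X.presheaf.stalk x := (X.presheaf.germ W x hx).hom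
  let a : Ideal Γ(X, W) := J.comap γ
  haveI : IsNoetherianRing Γ(X, W) := IsLocallyNoetherian.component_noetherian ⟨W, hW⟩
  let q : Spec (CommRingCat.of (Γ(X, W) ⧸ a)) ⟶ X :=
    Spec.map (CommRingCat.ofHom (Ideal.Quotient.mk a)) ≫ hW.fromSpec
  haveI : QuasiCompact q := inferInstance
  let I := q.ker
  have hker : RingHom.ker (q.app W).hom = a := by
    have h1 : q ⁻¹ᵁ W = ⊤ := by
      show (Spec.map (CommRingCat.ofHom (Ideal.Quotient.mk a))) ⁻¹ᵁ (hW.fromSpec ⁻¹ᵁ W) = ⊤
      rw [hW.fromSpec_preimage_self]; rfl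
    have h2 : q.app W ≫ (Spec (CommRingCat.of (Γ(X, W) ⧸ a))).presheaf.map (eqToHom h1.symm).op ≫
        (Scheme.ΓSpecIso (CommRingCat.of (Γ(X, W) ⧸ a))).hom = CommRingCat.ofHom (Ideal.Quotient.mk a) := by
      rw [show q.app W = hW.fromSpec.app W ≫
          (Spec.map (CommRingCat.ofHom (Ideal.Quotient.mk a))).app (hW.fromSpec ⁻¹ᵁ W) from Scheme.Hom.comp_app _ _ _,
        hW.fromSpec_app_self]
      simp only [Category.assoc, Scheme.Hom.naturality_assoc, ← Functor.map_comp_assoc]
      rw [show ((Spec (CommRingCat.of (Γ(X, W) ⧸ a))).presheaf.map _ ≫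
        (Scheme.ΓSpecIso (CommRingCat.of (Γ(X, W) ⧸ a))).hom) = (Scheme.ΓSpecIso (CommRingCat.of (Γ(X, W) ⧸ a))).hom from by
          erw [CategoryTheory.Functor.map_id]; rw [Category.id_comp]]
      exact (Scheme.ΓSpecIso_inv_naturality_assoc _ _).symm.trans (by simp)
    ext c
    rw [RingHom.mem_ker, ← Ideal.Quotient.eq_zero_iff_mem]
    have h3 := ConcreteCategory.congr_hom h2 c
    constructor
    · intro hc
      refine h3.symm.trans ?_
      rw [ConcreteCategory.comp_apply, show q.app W c = 0 from hc, map_zero]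
    · intro hc
      have hbij := (ConcreteCategory.bijective_of_isIso
        ((Spec (CommRingCat.of (Γ(X, W) ⧸ a))).presheaf.map (eqToHom h1.symm).op ≫
          (Scheme.ΓSpecIso (CommRingCat.of (Γ(X, W) ⧸ a))).hom)).1
      refine hbij ?_
      rw [map_zero]
      exact h3.trans hc
  let ι := I.subschemeι
  let G := (Scheme.Modules.pushforward ι).obj (Coh.structureModule I.subscheme)
  have hG : Coh.IsCoh G := isCoh_pushforward_closed _ (isCoh_structureModule _)
  haveI := hG.1
  have hιker : RingHom.ker (ι.app W).hom = a := by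
    rw [← hker, ← Scheme.Hom.ker_apply ι ⟨W, hW⟩, ← Scheme.Hom.ker_apply q ⟨W, hW⟩]
    exact congrArg (fun K : X.IdealSheafData => K.ideal ⟨W, hW⟩) I.ker_subschemeι
  let one : Γ(G, W) := (1 : Γ(I.subscheme, ι ⁻¹ᵁ W))
  have hsmul : ∀ c : Γ(X, W), c • one = (show Γ(G, W) from ι.app W c) := fun c => mul_one (ι.app W c)
  letI := Module.compHom (G.presheaf.stalk x) (X.presheaf.germ W x hx).hom
  haveI := FlatLocus.isLocalizedModule_germL G hW x hx
  letI : Algebra Γ(X, W) (X.presheaf.stalk x) := TopCat.Presheaf.algebra_section_stalk X.presheaf (⟨x, hx⟩ : W)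
  haveI := hW.isLocalization_stalk ⟨x, hx⟩
  let P := (hW.primeIdealOf ⟨x, hx⟩).asIdeal.primeCompl
  let g₁ := G.presheaf.germ W x hx one
  let L : X.presheaf.stalk x →ₗ[X.presheaf.stalk x] G.presheaf.stalk x := LinearMap.toSpanSingleton _ _ g₁
  refine ⟨G, hG, ⟨(Submodule.quotEquivOfEq _ _ ?_).trans (L.quotKerEquivOfSurjective ?_)⟩⟩
  · ext z
    obtain ⟨⟨c, d⟩, hcd⟩ := IsLocalization.surj P z
    have hd : IsUnit (γ d.1) := IsLocalization.map_units _ d
    have hcd' : z * γ d.1 = γ c := hcd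
    have hz : z ∈ J ↔ γ c ∈ J := ⟨fun h => hcd' ▸ J.mul_mem_right _ h, fun h => (J.mul_unit_mem_iff_mem hd).1 (hcd' ▸ h)⟩
    have hz' : L z = 0 ↔ G.presheaf.germ W x hx (c • one) = 0 := by
      rw [StalkHomLib.germ_smul', show X.presheaf.germ W x hx c = γ d.1 * z from hcd'.symm.trans (mul_comm _ _),
        mul_smul, hd.smul_eq_zero]
      rfl
    rw [LinearMap.mem_ker, hz', hz]
    constructor
    · intro hc
      have : c • one = 0 := by
        rw [hsmul]
        exact (show c ∈ RingHom.ker (ι.app W).hom from hιker.ge hc)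
      rw [this, map_zero]
    · intro hc
      obtain ⟨s, hs⟩ := (IsLocalizedModule.eq_zero_iff P (FlatLocus.germL G W x hx)).1 hc
      have hs' : (s.1 * c) • one = 0 := (mul_smul s.1 c one).trans hs
      rw [hsmul] at hs'
      have hmem : s.1 * c ∈ a := hιker.le hs'
      have hu : IsUnit (γ s.1) := IsLocalization.map_units (X.presheaf.stalk x) s
      refine (J.unit_mul_mem_iff_mem hu).1 ?_
      rw [← map_mul]
      exact hmem
  · intro w
    obtain ⟨⟨m, d⟩, hmd⟩ := IsLocalizedModule.surj P (FlatLocus.germL G W x hx) w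
    obtain ⟨c, hc⟩ := ι.app_surjective W hW m
    have hd : IsUnit (γ d.1) := IsLocalization.map_units _ d
    obtain ⟨v, hv⟩ := hd
    refine ⟨(↑v⁻¹ : X.presheaf.stalk x) * γ c, ?_⟩
    show ((↑v⁻¹ : X.presheaf.stalk x) * γ c) • g₁ = w
    rw [mul_smul, ← StalkHomLib.germ_smul', hsmul, hc]
    have : γ d.1 • w = G.presheaf.germ W x hx m := hmd
    rw [← this, ← hv, smul_smul, Units.inv_mul, one_smul]

end Groth.Agent.LocNoethMod
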