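import Groth.Agent.LocNoethMod.Injective
import Groth.Agent.ExtShLib.Affine
import Groth.Agent.InjHullLib.Noetherian
import Groth.Agent.InjHullLib.Matlis
import Groth.Agent.S0307

/-!
# Injective quasi-coherent modules on noetherian affine schemes
-/

set_option autoImplicit false
set_option backward.isDefEq.respectTransparency false
set_option linter.style.haveILetI false
universe u

open CategoryTheory Limits Opposite TopologicalSpace AlgebraicGeometry
open Groth.Agent.PullbackMod Groth.Agent.DCohLib Groth.Agent.ExtShLib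

noncomputable section

namespace Groth.Agent.LocNoethMod

variable {X : Scheme.{u}} [IsAffine X]

omit [IsAffine X] in
theorem mem_basicOpen_iff (hX : IsAffineOpen (⊤ : X.Opens)) (p : PrimeSpectrum Γ(X, ⊤)) (a : Γ(X, ⊤)) :
    hX.fromSpec p ∈ X.basicOpen a ↔ a ∉ p.asIdeal := by
  have h : hX.fromSpec ⁻¹ᵁ X.basicOpen a = PrimeSpectrum.basicOpen a := hX.fromSpec_preimage_basicOpen a
  exact (SetLike.ext_iff.1 h p).trans (PrimeSpectrum.mem_basicOpen _ _)

/-- A quasi-coherent module on which functions act bijectively or locally nilpotently according to their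
values at a point is a skyscraper. -/
theorem isIso_toSky (M : X.Modules) [Coh.IsQCoh M] (x : X)
    (hb : ∀ a : Γ(X, ⊤), x ∈ X.basicOpen a → Function.Bijective fun m : Γ(M, ⊤) => a • m)
    (hn : ∀ a : Γ(X, ⊤), x ∉ X.basicOpen a → ∀ m : Γ(M, ⊤), ∃ n : ℕ, a ^ n • m = 0) :
    IsIso (toSky (LinearMap.id : M.presheaf.stalk x →ₗ[X.presheaf.stalk x] M.presheaf.stalk x)) := by
  let φ := toSky (LinearMap.id : M.presheaf.stalk x →ₗ[X.presheaf.stalk x] M.presheaf.stalk x)
  have hX := isAffineOpen_top X
  refine (isIso_iff_stalk φ).2 fun y => ⟨(injective_iff_map_eq_zero _).2 fun z hz => ?_, fun z => ?_⟩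
  · obtain ⟨u, m, hu, hum⟩ := StalkHomLib.exists_localGen M hX (y := y) trivial z
    have h0 : (sky x (M.presheaf.stalk x)).presheaf.germ ⊤ y trivial (φ.app ⊤ m) = 0 := by
      rw [← stalkLin_germ φ (U := ⊤) y trivial m, ← hum, map_smul, hz, smul_zero]
    obtain ⟨O, hyO, i, j, hij⟩ := TopCat.Presheaf.germ_eq (sky x (M.presheaf.stalk x)).presheaf (U := ⊤) (V := ⊤) y trivial
      trivial (φ.app ⊤ m) 0 (h0.trans (map_zero _).symm)
    rw [map_zero] at hij
    obtain ⟨a, haO, hya⟩ := hX.exists_basicOpen_le ⟨y, hyO⟩ trivial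
    apply hu.smul_left_cancel.1
    rw [hum, smul_zero]
    by_cases hxa : x ∈ X.basicOpen a
    · have h1 : M.presheaf.germ ⊤ x trivial m = 0 :=
        congr_fun (show (show SkyObj x (M.presheaf.stalk x) O from
          (sky x (M.presheaf.stalk x)).presheaf.map i.op (φ.app ⊤ m)) = 0 from hij) ⟨haO hxa⟩
      letI := Module.compHom (M.presheaf.stalk x) (X.presheaf.germ ⊤ x trivial).hom
      haveI := FlatLocus.isLocalizedModule_germL M hX x trivial
      obtain ⟨s, hs⟩ := (IsLocalizedModule.eq_zero_iff (hX.primeIdealOf ⟨x, trivial⟩).asIdeal.primeCompl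
        (FlatLocus.germL M ⊤ x trivial)).1 h1
      have hxs : x ∈ X.basicOpen s.1 := by
        have h := (mem_basicOpen_iff hX (hX.primeIdealOf ⟨x, trivial⟩) s.1).2 s.2
        rwa [hX.fromSpec_primeIdealOf] at h
      have hm : m = 0 := (hb s.1 hxs).1 (hs.trans (smul_zero s.1).symm)
      rw [hm, map_zero]
    · obtain ⟨k, hk⟩ := hn a hxa m
      have hua : IsUnit (X.presheaf.germ ⊤ y trivial a) := (X.mem_basicOpen a y trivial).1 hya
      apply (hua.pow k).smul_left_cancel.1
      rw [smul_zero, ← map_pow, ← StalkHomLib.germ_smul', hk, map_zero]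
  · obtain ⟨O, hyO, s, rfl⟩ := TopCat.Presheaf.exists_germ_eq _ z
    obtain ⟨a, haO, hya⟩ := hX.exists_basicOpen_le ⟨y, hyO⟩ trivial
    suffices h : ∃ m : Γ(M, ⊤), (sky x (M.presheaf.stalk x)).presheaf.map (homOfLE haO).op s =
        (sky x (M.presheaf.stalk x)).presheaf.map (homOfLE (le_top : X.basicOpen a ≤ ⊤)).op (φ.app ⊤ m) by
      obtain ⟨m, hm⟩ := h
      refine ⟨M.presheaf.germ ⊤ y trivial m, ?_⟩
      rw [stalkLin_germ, ← TopCat.Presheaf.germ_res_apply _ (homOfLE haO) y hya s, hm,
        TopCat.Presheaf.germ_res_apply]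
    by_cases hxa : x ∈ X.basicOpen a
    · obtain ⟨u, m₁, hu, hum⟩ := StalkHomLib.exists_localGen M hX (y := x) trivial
        ((show SkyObj x (M.presheaf.stalk x) O from s) ⟨haO hxa⟩)
      letI : Algebra Γ(X, ⊤) (X.presheaf.stalk x) := TopCat.Presheaf.algebra_section_stalk X.presheaf (⟨x, trivial⟩ : (⊤ : X.Opens))
      haveI := hX.isLocalization_stalk ⟨x, trivial⟩
      obtain ⟨⟨c, d⟩, hcd⟩ := IsLocalization.surj (hX.primeIdealOf ⟨x, trivial⟩).asIdeal.primeCompl u
      have hd : IsUnit (X.presheaf.germ ⊤ x trivial d.1) := IsLocalization.map_units _ d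
      have hc : IsUnit (X.presheaf.germ ⊤ x trivial c) := by
        rw [show X.presheaf.germ ⊤ x trivial c = u * X.presheaf.germ ⊤ x trivial d.1 from hcd.symm]
        exact hu.mul hd
      obtain ⟨m, hm⟩ := (hb c ((X.mem_basicOpen c x trivial).2 hc)).2 (d.1 • m₁)
      refine ⟨m, funext fun h => ?_⟩
      show (show SkyObj x (M.presheaf.stalk x) O from s) ⟨haO hxa⟩ = M.presheaf.germ ⊤ x trivial m
      apply hc.smul_left_cancel.1
      rw [← StalkHomLib.germ_smul', show c • m = d.1 • m₁ from hm, StalkHomLib.germ_smul', ← hum, smul_smul,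
        mul_comm]
      exact congrArg (· • _) hcd.symm
    · exact ⟨0, funext fun h => absurd h.down hxa⟩

variable [IsLocallyNoetherian X]

theorem injective_sky (x : X) (N : ModuleCat.{u} (X.presheaf.stalk x)) [Injective N] : Injective (sky x N) :=
  Injective.injective_of_adjoint (stalkSkyAdj x) N

/-- The module attached to an indecomposable injective is injective. -/
theorem injective_phi_indecomposable (E : ModuleCat.{u} Γ(X, ⊤)) (hE : InjHull.IsIndecomposable Γ(X, ⊤) E)
    [hinj : Module.Injective Γ(X, ⊤) E] : Injective (phi.obj E) := by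
  haveI : IsNoetherianRing Γ(X, ⊤) := IsLocallyNoetherian.component_noetherian ⟨⊤, isAffineOpen_top X⟩
  haveI := hE.1
  obtain ⟨p, hp, f, hf⟩ := InjHullLib.exists_injective_quotient_prime (R := Γ(X, ⊤)) (E := E)
  have hess : InjHull.IsEssentialInj f :=
    { injective := hf
      essential := fun N hN => InjHullLib.inf_ne_bot_of_indecomposable hE hN fun h => by
        have h1 : f 1 ∈ LinearMap.range f := LinearMap.mem_range_self f 1
        rw [h, Submodule.mem_bot] at h1
        exact one_ne_zero ((injective_iff_map_eq_zero f).1 hf _ h1) }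
  have hinjs : ∀ a : Γ(X, ⊤), a ∉ p → Function.Injective fun z : E => a • z := fun a ha z w hzw => by
    by_contra hne
    obtain ⟨r, c, hc, hr⟩ := InjHullLib.exists_smul_mem_range hess (sub_ne_zero.2 hne)
    have h0 : f (a • c) = 0 := by
      rw [map_smul, hc, smul_comm, smul_sub, show a • z = a • w from hzw, sub_self, smul_zero]
    have h1 := (injective_iff_map_eq_zero f).1 hf _ h0
    rw [Algebra.smul_def, mul_eq_zero] at h1
    rcases h1 with h1 | h1
    · exact ha (Ideal.Quotient.eq_zero_iff_mem.1 h1)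
    · exact hr (by rw [← hc, h1, map_zero])
  let M := phi.obj E
  let l := phiGsec E
  let x : X := (isAffineOpen_top X).fromSpec ⟨p, hp⟩
  haveI : IsIso (toSky (LinearMap.id : M.presheaf.stalk x →ₗ[X.presheaf.stalk x] M.presheaf.stalk x)) := by
    refine isIso_toSky M x (fun a ha => ?_) (fun a ha m => ?_)
    · have ha' : a ∉ p := (mem_basicOpen_iff (isAffineOpen_top X) ⟨p, hp⟩ a).1 ha
      have hb : Function.Bijective fun z : E => a • z :=
        ⟨hinjs a ha', InjHullLib.surjective_smul (hinjs a ha')⟩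
      have e : (fun m : Γ(M, ⊤) => a • m) = l ∘ (fun z : E => a • z) ∘ l.symm := by
        funext m
        exact ((map_smul l a _).trans (congrArg (a • ·) (l.apply_symm_apply m))).symm
      rw [e]
      exact l.bijective.comp (hb.comp l.symm.bijective)
    · have ha' : a ∈ p := of_not_not fun h => ha ((mem_basicOpen_iff (isAffineOpen_top X) ⟨p, hp⟩ a).2 h)
      obtain ⟨n, hn⟩ := InjHullLib.isPowerTorsion_of_hull p hess (l.symm m)
      refine ⟨n, ?_⟩
      have h := congrArg l (hn (a ^ n) (Ideal.pow_mem_pow ha' n))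
      rwa [map_smul, map_zero, LinearEquiv.apply_symm_apply] at h
  haveI : Injective E := Module.injective_object_of_injective_module _ _
  haveI := injective_stalk_phi E x
  exact Injective.of_iso (asIso (toSky (LinearMap.id : M.presheaf.stalk x →ₗ[X.presheaf.stalk x] M.presheaf.stalk x))).symm
    (injective_sky x (ModuleCat.of (X.presheaf.stalk x) (M.presheaf.stalk x)))

/-- The module attached to an injective module is injective. -/
theorem injective_phi (E : ModuleCat.{u} Γ(X, ⊤)) [hE : Injective E] : Injective (phi.obj E) := by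
  classical
  haveI : IsNoetherianRing Γ(X, ⊤) := IsLocallyNoetherian.component_noetherian ⟨⊤, isAffineOpen_top X⟩
  obtain ⟨ι, S, hint, hS⟩ := Groth.Agent.S0307.result Γ(X, ⊤) E (Module.injective_module_of_injective_object _ E)
  let Z : ι → ModuleCat.{u} Γ(X, ⊤) := fun i => ModuleCat.of Γ(X, ⊤) (S i)
  let e : ∐ Z ≅ E := ModuleCat.coprodIsoDirectSum Z ≪≫
    (LinearEquiv.ofBijective (DirectSum.coeLinearMap S) hint).toModuleIso
  haveI := isEquivalence_push (X := X)
  haveI : PreservesColimitsOfSize.{u, u} (tilde.functor Γ(X, ⊤)) :=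
    tilde.adjunction.leftAdjoint_preservesColimits
  haveI : PreservesColimit (Discrete.functor Z) (phi (X := X)) := by
    unfold phi; infer_instance
  refine Injective.of_iso ((PreservesCoproduct.iso phi Z).symm ≪≫ phi.mapIso e)
    (injective_coproduct (fun i => phi.obj (Z i)) fun i => ?_)
  haveI : Module.Injective Γ(X, ⊤) (Z i) := (hS i).2
  exact injective_phi_indecomposable (Z i) (hS i).1

theorem injective_of_sections (M : X.Modules) [Coh.IsQCoh M] [Module.Injective Γ(X, ⊤) Γ(M, ⊤)] :
    Injective M := by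
  haveI : Injective (gsec.obj M) := by
    haveI : Module.Injective Γ(X, ⊤) (gsec.obj M) := ‹Module.Injective Γ(X, ⊤) Γ(M, ⊤)›
    exact Module.injective_object_of_injective_module _ _
  exact Injective.of_iso (liftIso (phiGsec (gsec.obj M)).toModuleIso).symm (injective_phi (gsec.obj M))

end Groth.Agent.LocNoethMod
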