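import Groth.Agent.LocNoethMod.Sky
import Groth.Agent.LocInjLib.Basic
import Groth.Agent.GorLib.LocInjDim
import Groth.Agent.InjHullLib.Basic
import Groth.Agent.S11155

/-!
# Quasi-coherent modules with injective stalks
-/

set_option autoImplicit false
set_option backward.isDefEq.respectTransparency false
set_option linter.style.haveILetI false
universe u

open CategoryTheory Limits Opposite TopologicalSpace AlgebraicGeometry
open Groth.Agent.PullbackMod Groth.Agent.DCohLib

noncomputable section

namespace Groth.Agent.LocNoethMod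

variable {X : Scheme.{u}} [IsLocallyNoetherian X]

theorem injective_sections_of_stalks (F : X.Modules) [Coh.IsQCoh F]
    (h : ∀ x : X, Module.Injective (X.presheaf.stalk x) (F.presheaf.stalk x))
    {W : X.Opens} (hW : IsAffineOpen W) : Module.Injective Γ(X, W) Γ(F, W) := by
  haveI : IsNoetherianRing Γ(X, W) := IsLocallyNoetherian.component_noetherian ⟨W, hW⟩
  refine GorLib.injective_of_localizations Γ(F, W) fun p => ?_
  let x : X := hW.fromSpec p
  have hx : x ∈ W := hW.range_fromSpec.le (Set.mem_range_self p)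
  have hp : hW.primeIdealOf ⟨x, hx⟩ = p :=
    hW.fromSpec.isOpenEmbedding.injective (hW.fromSpec_primeIdealOf ⟨x, hx⟩)
  letI : Algebra Γ(X, W) (X.presheaf.stalk x) := TopCat.Presheaf.algebra_section_stalk X.presheaf (⟨x, hx⟩ : W)
  haveI := hW.isLocalization_stalk ⟨x, hx⟩
  letI := Module.compHom (F.presheaf.stalk x) (X.presheaf.germ W x hx).hom
  haveI : IsScalarTower Γ(X, W) (X.presheaf.stalk x) (F.presheaf.stalk x) :=
    .of_algebraMap_smul fun _ _ => rfl
  haveI := FlatLocus.isLocalizedModule_germL F hW x hx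
  haveI : Module.Flat Γ(X, W) (X.presheaf.stalk x) :=
    IsLocalization.flat _ (hW.primeIdealOf ⟨x, hx⟩).asIdeal.primeCompl
  haveI := h x
  haveI : Module.Injective Γ(X, W) (F.presheaf.stalk x) := Module.Baer.injective fun I g => by
    obtain ⟨y, hy⟩ := S11155.exists_of_flat (S := X.presheaf.stalk x) I g
    exact ⟨(LinearMap.toSpanSingleton (X.presheaf.stalk x) _ y).restrictScalars Γ(X, W) ∘ₗ
      Algebra.linearMap Γ(X, W) (X.presheaf.stalk x), fun r hr => (hy ⟨r, hr⟩).symm⟩
  rw [← hp]
  let P := (hW.primeIdealOf ⟨x, hx⟩).asIdeal.primeCompl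
  let e : F.presheaf.stalk x ≃ₗ[Γ(X, W)] LocalizedModule P Γ(F, W) :=
    (IsLocalizedModule.iso P (FlatLocus.germL F W x hx)).symm
  haveI : Module.Injective Γ(X, W) (LocalizedModule P Γ(F, W)) := Module.Baer.injective ((Module.Baer.of_injective ‹Module.Injective Γ(X, W) (F.presheaf.stalk x)›).of_equiv e)
  haveI : Algebra.IsEpi Γ(X, W) (Localization P) := InjHullLib.isEpi_localization P (Localization P)
  exact InjHullLib.injective_of_isEpi (R := Γ(X, W)) (S := Localization P) (LocalizedModule P Γ(F, W))

/-- A quasi-coherent module whose stalks are injective is injective. -/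
theorem injective_of_stalks (F : X.Modules) [Coh.IsQCoh F]
    (h : ∀ x : X, Module.Injective (X.presheaf.stalk x) (F.presheaf.stalk x)) : Injective F := by
  haveI : EnoughInjectives X.Modules := SiteBase.enoughInjectives_sheafOfModules _
  refine LocInjLib.injective_of_local F (fun x => ?_) (Injective.under F) (Injective.ι F)
  obtain ⟨V, hV, hxV, -⟩ := exists_isAffineOpen_mem_and_subset (X := X) (x := x) (U := ⊤) trivial
  refine ⟨V, hxV, ?_⟩
  haveI : IsAffine (V : Scheme.{u}) := hV
  haveI : Coh.IsQCoh ((Scheme.Modules.restrictFunctor V.ι).obj F) := inferInstance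
  haveI : Module.Injective Γ(↑V, ⊤) Γ((Scheme.Modules.restrictFunctor V.ι).obj F, ⊤) :=
    by
      haveI := injective_sections_of_stalks F h (V.ι_image_top.symm ▸ hV : IsAffineOpen (V.ι ''ᵁ ⊤))
      let M' := (Scheme.Modules.restrictFunctor V.ι).obj F
      let σ : Γ(X, V.ι ''ᵁ ⊤) ≃+* Γ(↑V, ⊤) := (V.ι.appIso ⊤).commRingCatIsoToRingEquiv
      letI := RingHomInvPair.of_ringEquiv σ
      letI := RingHomInvPair.symm (RingHomClass.toRingHom σ) (RingHomClass.toRingHom σ.symm)
      let E : Γ(F, V.ι ''ᵁ ⊤) ≃ₛₗ[RingHomClass.toRingHom σ] Γ(M', ⊤) :=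
        { (F.restrictAppIso V.ι ⊤).symm.addCommGroupIsoToAddEquiv with
          map_smul' := fun r m => congr($(Scheme.Modules.smul_restrictAppIso_inv V.ι F ⊤ r).hom m) }
      exact Module.Injective.of_ringEquiv σ E
  exact injective_of_sections _

end Groth.Agent.LocNoethMod
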